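import Groth.Agent.MonoQuotLib.Cov
import Groth.Agent.AlgSpLib.FpqcMore
import Groth.Agent.MiscFlat6.FpqcDesc
import Groth.Agent.S12496

/-!
Descent along covering morphisms and cartesian squares of quotient type.
-/

set_option autoImplicit false
set_option backward.isDefEq.respectTransparency false

noncomputable section

universe u

open CategoryTheory CategoryTheory.Limits MonoidalCategory CartesianMonoidalCategory AlgebraicGeometry
open scoped MonObj

namespace Groth.Agent.QuotFormal

open MonoQuot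

theorem descend_cov (P : MorphismProperty Scheme.{u}) [IsZariskiLocalAtTarget P] [P.IsStableUnderBaseChange]
    [hP : P.DescendsAlong (@Surjective ⊓ @Flat ⊓ @QuasiCompact)] {A B C D : Scheme.{u}} {a : A ⟶ B} {b : A ⟶ C}
    {f : B ⟶ D} {d : C ⟶ D} (sq : IsPullback a b f d) (hd : IsCov d) (h : P b) : P f := by
  obtain ⟨Z, q, r, hr, hq⟩ := hd
  subst hr
  let 𝒰 : Scheme.Cover Scheme.fpqcPrecoverage D :=
    ⟨⟨PUnit.{u + 1}, fun _ => Z, fun _ => r ≫ d⟩, DescLib.Fpqc.memOfArrows (r ≫ d)⟩
  refine S12496.result P hP f 𝒰 fun _ => ?_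
  have sq' : IsPullback (pullback.fst f (r ≫ d)) (pullback.snd f (r ≫ d)) f (r ≫ d) := IsPullback.of_hasPullback _ _
  have h' := MorphismProperty.of_isPullback (P := P)
    (IsPullback.of_right (h₁₁ := sq.lift (pullback.fst f (r ≫ d)) (pullback.snd f (r ≫ d) ≫ r)
      (by rw [Category.assoc]; exact sq'.w)) (h₁₂ := a) (by rw [sq.lift_fst]; exact sq') (sq.lift_snd _ _ _) sq) h
  exact h'

theorem surjective_of_cov {A B : Scheme.{u}} {p : A ⟶ B} (h : IsCov p) : Surjective p := by
  obtain ⟨Z, q, r, hr, hq⟩ := h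
  haveI : Surjective (r ≫ p) := by rw [hr]; infer_instance
  exact Surjective.of_comp r p

variable {S : Scheme.{u}}

theorem isPullback_fst (A B : Over S) :
    IsPullback (snd A B).left (fst A B).left B.hom A.hom :=
  (IsPullback.of_hasPullback A.hom B.hom).flip

variable {G G' G'' : Over S} [GrpObj G] [GrpObj G'] {u : G' ⟶ G} [IsMonHom u] {p : G ⟶ G''}

/-- The kernel of the quotient. -/
theorem isPullback_unit (hsq : IsPullback ((G ◁ u) ≫ μ[G]) (fst G G') p p) :
    IsPullback u (toUnit G') p (η[G] ≫ p) := by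
  have h : IsPullback (lift (toUnit G' ≫ η[G]) (𝟙 G')) (toUnit G') (fst G G') η[G] := by
    refine ⟨⟨by simp⟩, ⟨PullbackCone.IsLimit.mk _ (fun s => s.fst ≫ snd G G') (fun s => ?_)
      (fun s => toUnit_unique _ _) fun s m h _ => ?_⟩⟩
    · refine CartesianMonoidalCategory.hom_ext _ _ ?_ (by simp)
      rw [Category.assoc, lift_fst, s.condition, ← Category.assoc]
      congr 1
      exact toUnit_unique _ _
    · rw [← h]; simp
  have h2 := h.paste_horiz hsq
  rwa [show lift (toUnit G' ≫ η[G]) (𝟙 G') ≫ (G ◁ u) ≫ μ[G] = u by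
    rw [← Category.assoc, CartesianMonoidalCategory.lift_whiskerLeft, Category.id_comp,
      MonObj.mul_eq_mul, MonObj.comp_mul, lift_fst, lift_snd, ← Hom.one_def, _root_.one_mul]] at h2

theorem isPullback_unit_left (hsq : IsPullback ((G ◁ u) ≫ μ[G]) (fst G G') p p) :
    IsPullback u.left G'.hom p.left (η[G].left ≫ p.left) :=
  (isPullback_unit hsq).map (Over.forget S)

theorem isPullback_sq_left (hsq : IsPullback ((G ◁ u) ≫ μ[G]) (fst G G') p p) :
    IsPullback ((G ◁ u) ≫ μ[G]).left (fst G G').left p.left p.left :=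
  hsq.map (Over.forget S)

/-- A property of the subgroup passes to the quotient map. -/
theorem prop_quot (P : MorphismProperty Scheme.{u}) [IsZariskiLocalAtTarget P] [P.IsStableUnderBaseChange]
    [P.DescendsAlong (@Surjective ⊓ @Flat ⊓ @QuasiCompact)] (hp : IsCov p.left)
    (hsq : IsPullback ((G ◁ u) ≫ μ[G]) (fst G G') p p) (h : P G'.hom) : P p.left :=
  descend_cov P (isPullback_sq_left hsq) hp (MorphismProperty.of_isPullback (isPullback_fst G G') h)

/-- A property of the quotient map passes to the subgroup. -/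
theorem prop_sub (P : MorphismProperty Scheme.{u}) [P.IsStableUnderBaseChange]
    (hsq : IsPullback ((G ◁ u) ≫ μ[G]) (fst G G') p p) (h : P p.left) : P G'.hom :=
  MorphismProperty.of_isPullback (isPullback_unit_left hsq) h

omit [GrpObj G] in
theorem isPullback_lift {X Y : Over S} (p : X ⟶ Y) :
    IsPullback (lift (pullback.fst p p) (pullback.snd p p)) (pullback.fst p p ≫ p) (p ⊗ₘ p) (lift (𝟙 Y) (𝟙 Y)) := by
  refine ⟨⟨?_⟩, ⟨PullbackCone.IsLimit.mk _ (fun s => pullback.lift (s.fst ≫ fst _ _) (s.fst ≫ snd _ _) ?_)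
    (fun s => ?_) (fun s => ?_) fun s m h1 h2 => ?_⟩⟩
  · exact CartesianMonoidalCategory.hom_ext _ _ (by simp) (by simp [pullback.condition])
  · have h1 := congrArg (· ≫ fst Y Y) s.condition
    have h2 := congrArg (· ≫ snd Y Y) s.condition
    simp only [Category.assoc, tensorHom_fst, tensorHom_snd, lift_fst, lift_snd] at h1 h2
    simp only [Category.assoc]
    exact h1.trans h2.symm
  · exact CartesianMonoidalCategory.hom_ext _ _ (by simp) (by simp)
  · have h1 := congrArg (· ≫ fst Y Y) s.condition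
    simp only [Category.assoc, tensorHom_fst, lift_fst, Category.comp_id] at h1
    rw [← Category.assoc, pullback.lift_fst, Category.assoc, h1]
  · refine pullback.hom_ext ?_ ?_
    · rw [pullback.lift_fst, ← h1, Category.assoc, lift_fst]
    · rw [pullback.lift_snd, ← h1, Category.assoc, lift_snd]

theorem isImmersion_diag (Y : Over S) : IsImmersion (lift (𝟙 Y) (𝟙 Y)).left := by
  have e : (lift (𝟙 Y) (𝟙 Y)).left = pullback.diagonal Y.hom := rfl
  rw [e]; infer_instance

theorem isClosedImmersion_diag_iff (Y : Over S) :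
    IsClosedImmersion (lift (𝟙 Y) (𝟙 Y)).left ↔ IsSeparated Y.hom := by
  have e : (lift (𝟙 Y) (𝟙 Y)).left = pullback.diagonal Y.hom := rfl
  rw [e]
  exact ⟨fun h => ⟨h⟩, fun h => h.isClosedImmersion_diagonal⟩

/-- Descent of properties of the diagonal. -/
theorem descend_diag (P : MorphismProperty Scheme.{u}) [IsZariskiLocalAtTarget P] [P.IsStableUnderBaseChange]
    [P.DescendsAlong (@Surjective ⊓ @Flat ⊓ @QuasiCompact)] {X Y : Over S} {p : X ⟶ Y} (hp : IsCov p.left)
    (h : P (lift (pullback.fst p p) (pullback.snd p p)).left) : P (lift (𝟙 Y) (𝟙 Y)).left := by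
  have sq := ((isPullback_lift p).map (Over.forget S)).flip
  simp only [Over.forget_map] at sq
  rw [MonoidalCategory.tensorHom_def, Over.comp_left] at sq
  refine descend_cov P (IsPullback.of_hasPullback _ (Y ◁ p).left) (hp.whiskerLeft Y) ?_
  refine descend_cov P (IsPullback.of_hasPullback _ (p ▷ X).left) (hp.whiskerRight X) ?_
  have sq' := ((IsPullback.of_hasPullback _ (p ▷ X).left).paste_horiz
    (IsPullback.of_hasPullback (lift (𝟙 Y) (𝟙 Y)).left (Y ◁ p).left))
  rw [← sq'.isoIsPullback_hom_snd _ _ sq]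
  exact (P.cancel_left_of_respectsIso _ _).2 h

end Groth.Agent.QuotFormal
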