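import Groth.Agent.QuotFormalLib.Basic
import Groth.Agent.S0114
import Groth.Agent.S0115
import Groth.Agent.S5938

/-!
Properties of quotients by subgroups.
-/

set_option autoImplicit false
set_option backward.isDefEq.respectTransparency false

noncomputable section

universe u

open CategoryTheory CategoryTheory.Limits MonoidalCategory CartesianMonoidalCategory AlgebraicGeometry
open scoped MonObj

attribute [-instance] CategoryTheory.Hom.commGroup

namespace Groth.Agent.QuotFormal

open MonoQuot

variable {S : Scheme.{u}} {G G' G'' : Over S} [GrpObj G] [GrpObj G'] {u : G' ⟶ G} [IsMonHom u] {p : G ⟶ G''}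

omit [GrpObj G'] [IsMonHom u] in
/-- The kernel pair of the quotient map has the properties of the subgroup. -/
theorem prop_kernelPair (P : MorphismProperty Scheme.{u}) [P.IsStableUnderBaseChange]
    (hsq : IsPullback ((G ◁ u) ≫ μ[G]) (fst G G') p p) (h : P u.left) :
    P (lift (pullback.fst p p) (pullback.snd p p)).left := by
  let θ : G ⊗ G ≅ G ⊗ G :=
    { hom := lift (fst G G) (fst G G * snd G G)
      inv := lift (fst G G) ((fst G G)⁻¹ * snd G G)
      hom_inv_id := by ext <;> simp [MonObj.comp_mul, GrpObj.comp_inv]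
      inv_hom_id := by ext <;> simp [MonObj.comp_mul, GrpObj.comp_inv] }
  let σ : G ⊗ G ≅ G ⊗ G := θ ≪≫ β_ G G
  have hu : P (G ◁ u).left := MorphismProperty.of_isPullback (P := P) (FinHom.isPullback_whiskerLeft G u).flip h
  have e : hsq.isoPullback.hom ≫ lift (pullback.fst p p) (pullback.snd p p) =
      (G ◁ u) ≫ lift (fst G G * snd G G) (fst G G) := by
    refine CartesianMonoidalCategory.hom_ext _ _ ?_ ?_
    · simp [MonObj.mul_eq_mul, MonObj.comp_mul]
    · simp
  have e' : lift (fst G G * snd G G) (fst G G) = σ.hom := by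
    refine CartesianMonoidalCategory.hom_ext _ _ ?_ ?_ <;> simp [σ, θ]
  haveI : IsIso σ.hom.left := @Functor.map_isIso _ _ _ _ _ _ (Over.forget S) σ.hom σ.isIso_hom
  haveI : IsIso hsq.isoPullback.inv.left :=
    @Functor.map_isIso _ _ _ _ _ _ (Over.forget S) hsq.isoPullback.inv hsq.isoPullback.isIso_inv
  rw [show lift (pullback.fst p p) (pullback.snd p p) = hsq.isoPullback.inv ≫ (G ◁ u) ≫ σ.hom by
    rw [← e', ← e, Iso.inv_hom_id_assoc], Over.comp_left, Over.comp_left]
  exact (P.cancel_left_of_respectsIso _ _).2 ((P.cancel_right_of_respectsIso _ _).2 hu)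

omit [GrpObj G] [GrpObj G'] [IsMonHom u] in
/-- Flat monomorphisms into unramified schemes are open immersions. -/
theorem isOpenImmersion_of_mono [Mono u] [FormallyUnramified G.hom] [LocallyOfFiniteType G.hom] [Flat G'.hom]
    [LocallyOfFinitePresentation G'.hom] : IsOpenImmersion u.left := by
  haveI h1 : IsOpenImmersion (lift (𝟙 G) (𝟙 G)).left := by
    rw [show (lift (𝟙 G) (𝟙 G)).left = pullback.diagonal G.hom from rfl]
    infer_instance
  have sq : IsPullback (lift u (𝟙 G')) u (G ◁ u) (lift (𝟙 G) (𝟙 G)) := by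
    refine ⟨⟨CartesianMonoidalCategory.hom_ext _ _ (by simp) (by simp)⟩, ⟨PullbackCone.IsLimit.mk _
      (fun s => s.fst ≫ snd G G') (fun s => ?_) (fun s => ?_) fun s m h _ => ?_⟩⟩
    · have a := congrArg (· ≫ fst G G) s.condition
      have b := congrArg (· ≫ snd G G) s.condition
      simp only [Category.assoc, CartesianMonoidalCategory.whiskerLeft_fst, CartesianMonoidalCategory.whiskerLeft_snd,
        lift_fst, lift_snd, Category.comp_id] at a b
      refine CartesianMonoidalCategory.hom_ext _ _ ?_ (by simp)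
      rw [Category.assoc, lift_fst, Category.assoc, a, b]
    · have b := congrArg (· ≫ snd G G) s.condition
      simp only [Category.assoc, CartesianMonoidalCategory.whiskerLeft_snd, lift_snd, Category.comp_id] at b
      rw [Category.assoc, b]
    · rw [← h]; simp
  haveI h2 : IsOpenImmersion (lift u (𝟙 G')).left :=
    MorphismProperty.of_isPullback (P := @IsOpenImmersion) (sq.map (Over.forget S)).flip h1
  haveI : Flat (fst G G').left := MorphismProperty.of_isPullback (P := @Flat) (isPullback_fst G G') ‹_›
  haveI : LocallyOfFinitePresentation (fst G G').left :=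
    MorphismProperty.of_isPullback (P := @LocallyOfFinitePresentation) (isPullback_fst G G') ‹_›
  have e : u.left = (lift u (𝟙 G')).left ≫ (fst G G').left := by rw [← Over.comp_left, lift_fst]
  haveI : Flat u.left := by rw [e]; infer_instance
  haveI : LocallyOfFinitePresentation u.left := by rw [e]; infer_instance
  haveI : Mono u.left := Over.mono_left_of_mono u
  exact IsOpenImmersion.of_flat_of_mono u.left

theorem quasiCompact_of_surjective {A B C : Scheme.{u}} (f : A ⟶ B) (g : B ⟶ C) [Surjective f] [QuasiCompact (f ≫ g)] :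
    QuasiCompact g := by
  refine ⟨fun U hU hc => ?_⟩
  have h := ((f ≫ g).isCompact_preimage (U := ⟨U, hU⟩) hc).image f.continuous
  change IsCompact (f.base '' (f.base ⁻¹' (g.base ⁻¹' U))) at h
  rw [Set.image_preimage_eq _ f.surjective] at h
  exact h

theorem locallyQuasiFinite_of_surjective {A B C : Scheme.{u}} (f : A ⟶ B) (g : B ⟶ C) [Surjective f] [Flat f]
    [LocallyOfFinitePresentation f] [LocallyOfFiniteType g] [LocallyQuasiFinite (f ≫ g)] : LocallyQuasiFinite g := by
  refine locallyQuasiFinite_iff_isDiscrete_preimage_singleton.2 fun s => ?_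
  rw [isDiscrete_iff_forall_mem_exists_isOpen]
  intro y hy
  obtain ⟨x, rfl⟩ := f.surjective y
  obtain ⟨O, hO, hO'⟩ := isDiscrete_iff_forall_mem_exists_isOpen.1 ((f ≫ g).isDiscrete_preimage_singleton s) x
    (by simpa using hy)
  refine ⟨f.base '' O, f.isOpenMap _ hO, ?_⟩
  ext y'
  constructor
  · rintro ⟨⟨o, ho, rfl⟩, hy'⟩
    have : o ∈ ({x} : Set A) := hO' ▸ ⟨ho, by simpa using hy'⟩
    rw [Set.mem_singleton_iff.1 this]
    exact Set.mem_singleton _
  · rintro rfl
    have hx : x ∈ O ∩ (f ≫ g).base ⁻¹' {s} := hO'.symm ▸ Set.mem_singleton x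
    exact ⟨⟨x, hx.1, rfl⟩, hy⟩

end Groth.Agent.QuotFormal
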